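import Cfsg.Agent.OrthH1.Cocycle

/-! Certificate for one of the three orthogonal groups. -/

set_option autoImplicit false
set_option maxRecDepth 4000

namespace CfsgLib.OrthH1.CaseB

/-- The numbering of the coordinates. -/
def pos : ((Fin 2 ⊕ Fin 2) ⊕ Fin 2) ≃ Fin 6 where
  toFun := fun i => match i with
    | .inl (.inl j) => ⟨j.val, by omega⟩
    | .inl (.inr j) => ⟨2 + j.val, by omega⟩
    | .inr j => ⟨4 + j.val, by omega⟩
  invFun := fun k => if h₁ : k.val < 2 then .inl (.inl ⟨k.val, h₁⟩)
    else if h₂ : k.val < 4 then .inl (.inr ⟨k.val - 2, by omega⟩)
    else .inr ⟨k.val - 4, by omega⟩
  left_inv := by decide
  right_inv := by decide

/-- The orbit words. -/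
def orb : List (ℕ × List Bool) := [
  (5, []),
  (7, [false, false, false, false]),
  (10, [false, true, true, false, false, false]),
  (11, [true]),
  (13, [false]),
  (14, [true, true]),
  (16, [false, false, false, true, true]),
  (17, [true, false, true]),
  (18, [false, true, true]),
  (19, [false, false]),
  (20, [true, true, false, true]),
  (22, [true, true, false, false]),
  (24, [true, false, false]),
  (25, [false, false, true, false, true]),
  (28, [true, false, true, true]),
  (31, [false, true]),
  (32, [false, true, false, false, false, true]),
  (33, [true, true, false, false, true, false, false]),
  (34, [true, false, false, false, true]),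
  (35, [false, false, true]),
  (36, [false, false, true, false, false]),
  (38, [false, true, false, false]),
  (40, [true, false, false, true]),
  (41, [false, false, false, true]),
  (44, [false, false, false, true, false, false]),
  (47, [true, false, false, true, false, false]),
  (48, [false, false, true, true]),
  (49, [false, true, false, true]),
  (50, [true, false, false, false]),
  (51, [true, false, true, false, false, true]),
  (52, [false, true, true, false, false]),
  (54, [false, true, false, false, true]),
  (56, [false, false, false, false, true, true]),
  (57, [false, false, false]),
  (60, [true, true, false, false, false]),
  (63, [false, false, false, false, true])]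

/-- The plane words. -/
def pl : List (ℕ × List Bool) := [
  (11, []),
  (14, []),
  (17, [false, true, true, false, false, false, false]),
  (19, [true, false, false, true, true, false, false, false]),
  (20, [false, true, true, false, false, false, false]),
  (22, [true, false, false, true, true, false, false, false]),
  (25, [false, true, false, false, false, false]),
  (28, [false, true, false, false, false, false]),
  (33, [false, true, false, false, false, true, false]),
  (35, [true, false, false, true, false, false, false]),
  (36, [false, true, false, false, false, true, false]),
  (38, [true, false, false, true, false, false, false]),
  (41, [true, false, false, false, true, false, false]),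
  (44, [true, false, false, false, true, false, false]),
  (49, [false, false, false, false, true, true, false]),
  (51, [false, false, false, false, true, false]),
  (52, [false, false, false, false, true, true, false]),
  (54, [false, false, false, false, true, false]),
  (57, [true, false, false, false, true, true, false, false]),
  (60, [true, false, false, false, true, true, false, false])]

theorem checks : Checks (Q := (Cfsg.quadFormMinus 2 (ZMod 2) 1 1)) pos 10619368485066599584 [(22, 52), (60, 40)] 5 5 11 [1, 2, 4, 8, 16, 32] orb pl where
  table := by decide +kernel
  gen := by decide +kernel
  span := by decide +kernel
  partner := by decide +kernel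
  pairs := by decide +kernel
  period := by decide +kernel
  kerA := by decide +kernel
  kerW := by decide +kernel
  splitA := by decide +kernel
  splitW := by decide +kernel
  orbit := by decide +kernel
  plane := by decide +kernel

theorem good : Good (Cfsg.quadFormMinus 2 (ZMod 2) 1 1) where
  zero := by decide
  add_pol a b u := by
    simp only [pol, Cfsg.quadFormMinus, Cfsg.quadFormPlus, Pi.add_apply, Fin.sum_univ_succ, Fin.sum_univ_zero]
    ring_nf
    reduce_mod_char

end CfsgLib.OrthH1.CaseB
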