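import Cfsg.Prelude.Def_Classical
import Mathlib.GroupTheory.Commutator.Basic
import Mathlib.Data.ZMod.Basic
import Mathlib.LinearAlgebra.Matrix.ToLin

/-! Crossed homomorphisms of commutator subgroups of orthogonal groups over the field of two elements. -/

set_option autoImplicit false

namespace CfsgLib.OrthH1

variable {ι : Type} [Fintype ι] [DecidableEq ι]

/-- The vectors. -/
abbrev Vec (ι : Type) := ι → ZMod 2

/-- The polar form. -/
def pol (Q : Vec ι → ZMod 2) (a b : Vec ι) : ZMod 2 := Q (a + b) + Q a + Q b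

/-- The action of an isometry. -/
def act {Q : Vec ι → ZMod 2} (g : Cfsg.isometryGroup (ZMod 2) Q) (x : Vec ι) : Vec ι :=
  Matrix.mulVec ((g : GL ι (ZMod 2)) : Matrix ι ι (ZMod 2)) x

variable {Q : Vec ι → ZMod 2}

/-- The isometry group. -/
local notation "OQ" => Cfsg.isometryGroup (ZMod 2) Q

theorem act_one (x : Vec ι) : act (1 : OQ) x = x := Matrix.one_mulVec x

theorem act_mul (g h : OQ) (x : Vec ι) : act (g * h) x = act g (act h x) :=
  (Matrix.mulVec_mulVec x _ _).symm

theorem act_add (g : OQ) (x y : Vec ι) : act g (x + y) = act g x + act g y :=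
  Matrix.mulVec_add _ _ _

theorem act_zero (g : OQ) : act g 0 = 0 := Matrix.mulVec_zero _

theorem act_ext {g h : OQ} (e : ∀ x, act g x = act h x) : g = h :=
  Subtype.ext (Units.ext (Matrix.ext_of_mulVec_single fun i => e _))

theorem act_inv_act (g : OQ) (x : Vec ι) : act g⁻¹ (act g x) = x := by
  rw [← act_mul, inv_mul_cancel, act_one]

theorem act_act_inv (g : OQ) (x : Vec ι) : act g (act g⁻¹ x) = x := by
  rw [← act_mul, mul_inv_cancel, act_one]

theorem Q_act (g : OQ) (x : Vec ι) : Q (act g x) = Q x := g.2 x x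

theorem pol_act (g : OQ) (x y : Vec ι) : pol Q (act g x) (act g y) = pol Q x y := by
  rw [pol, pol, ← act_add, Q_act g, Q_act g, Q_act g]

theorem add_self_vec (a : Vec ι) : a + a = 0 := funext fun i => by
  show a i + a i = 0
  generalize a i = c
  revert c
  decide

theorem zmod_two (c : ZMod 2) : c = 0 ∨ c = 1 := by
  revert c; decide

theorem pol_self (h0 : Q 0 = 0) (a : Vec ι) : pol Q a a = 0 := by
  rw [pol, add_self_vec, h0, zero_add]
  generalize Q a = c
  revert c
  decide

theorem pol_comm (a b : Vec ι) : pol Q a b = pol Q b a := by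
  rw [pol, pol, add_comm a b, add_right_comm]

/-- The hypotheses on the form. -/
structure Good (Q : Vec ι → ZMod 2) : Prop where
  zero : Q 0 = 0
  add_pol : ∀ a b u, pol Q (a + b) u = pol Q a u + pol Q b u

/-- The reflection as a linear map. -/
def reflLin (hQ : Good Q) (u : Vec ι) : Vec ι →ₗ[ZMod 2] Vec ι where
  toFun x := x + pol Q x u • u
  map_add' x y := by rw [hQ.add_pol, add_smul]; abel
  map_smul' c x := by
    rcases zmod_two c with rfl | rfl
    · have h : pol Q 0 u = 0 := by rw [pol, zero_add, hQ.zero, add_zero]; generalize Q u = c; revert c; decide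
      simp [h]
    · simp

theorem reflLin_Q (hQ : Good Q) {u : Vec ι} (hu : Q u = 1) (x : Vec ι) : Q (reflLin hQ u x) = Q x := by
  show Q (x + pol Q x u • u) = Q x
  rcases zmod_two (pol Q x u) with h | h
  · rw [h, zero_smul, add_zero]
  · rw [h, one_smul]
    rw [pol, hu] at h
    revert h
    generalize Q (x + u) = a
    generalize Q x = b
    revert a b
    decide

theorem reflLin_invol (hQ : Good Q) (u x : Vec ι) : reflLin hQ u (reflLin hQ u x) = x := by
  show (x + pol Q x u • u) + pol Q (x + pol Q x u • u) u • u = x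
  rcases zmod_two (pol Q x u) with h | h
  · rw [h, zero_smul, add_zero, h, zero_smul, add_zero]
  · rw [h, one_smul, hQ.add_pol, h, pol_self hQ.zero, add_zero, one_smul, add_assoc, add_self_vec, add_zero]

/-- The matrix of a reflection as a unit. -/
noncomputable def reflUnit (hQ : Good Q) (u : Vec ι) : GL ι (ZMod 2) :=
  have h : LinearMap.toMatrix' (reflLin hQ u) * LinearMap.toMatrix' (reflLin hQ u) = 1 := by
    rw [← LinearMap.toMatrix'_comp, ← LinearMap.toMatrix'_id]
    exact congrArg _ (LinearMap.ext (reflLin_invol hQ u))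
  ⟨LinearMap.toMatrix' (reflLin hQ u), LinearMap.toMatrix' (reflLin hQ u), h, h⟩

theorem reflUnit_mulVec (hQ : Good Q) (u x : Vec ι) :
    ((reflUnit hQ u : GL ι (ZMod 2)) : Matrix ι ι (ZMod 2)).mulVec x = x + pol Q x u • u :=
  LinearMap.toMatrix'_mulVec _ _

open Classical in
/-- The reflection (trivial unless the vector is nonsingular). -/
noncomputable def refl (hQ : Good Q) (u : Vec ι) : OQ :=
  if hu : Q u = 1 then ⟨reflUnit hQ u, fun x _ =>
    (congrArg Q (reflUnit_mulVec hQ u x)).trans (reflLin_Q hQ hu x)⟩ else 1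

variable (hQ : Good Q)
include hQ

theorem act_refl {u : Vec ι} (hu : Q u = 1) (x : Vec ι) : act (refl hQ u) x = x + pol Q x u • u := by
  rw [refl, dif_pos hu]
  exact reflUnit_mulVec hQ u x

theorem refl_sq {u : Vec ι} (hu : Q u = 1) : refl hQ u * refl hQ u = 1 := act_ext fun x => by
  rw [act_mul, act_refl hQ hu, act_refl hQ hu, act_one]
  exact reflLin_invol hQ u x

theorem refl_conj {u : Vec ι} (hu : Q u = 1) (g : OQ) : g * refl hQ u * g⁻¹ = refl hQ (act g u) :=
  act_ext fun x => by
    rw [act_mul, act_mul, act_refl hQ hu, act_refl hQ ((Q_act g u).trans hu), act_add, act_act_inv]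
    congr 1
    rw [show pol Q x (act g u) = pol Q (act g⁻¹ x) u by
      conv_lhs => rw [← act_act_inv g x]
      exact pol_act g _ _]
    rcases zmod_two (pol Q (act g⁻¹ x) u) with h | h
    · rw [h, zero_smul, zero_smul, act_zero]
    · rw [h, one_smul, one_smul]

/-- The product of the reflections of a pair. -/
noncomputable def w2 (hQ : Good Q) (u v : Vec ι) : OQ := refl hQ u * refl hQ v

omit hQ in
/-- An anisotropic pair. -/
def Pair (Q : Vec ι → ZMod 2) (u v : Vec ι) : Prop := Q u = 1 ∧ Q v = 1 ∧ pol Q u v = 1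

theorem w2_conj {u v : Vec ι} (h : Pair Q u v) (g : OQ) : g * w2 hQ u v * g⁻¹ = w2 hQ (act g u) (act g v) := by
  rw [w2, w2, ← refl_conj hQ h.1 g, ← refl_conj hQ h.2.1 g]
  group

theorem w2_symm {u v : Vec ι} (h : Pair Q u v) : w2 hQ v u = (w2 hQ u v)⁻¹ := by
  rw [w2, w2, mul_inv_rev, inv_eq_of_mul_eq_one_right (refl_sq hQ h.1),
    inv_eq_of_mul_eq_one_right (refl_sq hQ h.2.1)]

omit hQ in
theorem Pair.symm {u v : Vec ι} (h : Pair Q u v) : Pair Q v u :=
  ⟨h.2.1, h.1, (pol_comm v u).trans h.2.2⟩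

omit hQ in
theorem Q_add_of_pair {u v : Vec ι} (h : Pair Q u v) : Q (u + v) = 1 := by
  obtain ⟨h1, h2, h3⟩ := h
  rw [pol, h1, h2] at h3
  revert h3
  generalize Q (u + v) = a
  revert a
  decide

theorem w2_rot {u v : Vec ι} (h : Pair Q u v) : w2 hQ v (u + v) = w2 hQ u v := by
  have e : refl hQ v * refl hQ u * (refl hQ v)⁻¹ = refl hQ (u + v) := by
    rw [refl_conj hQ h.1, act_refl hQ h.2.1, h.2.2, one_smul]
  rw [w2, w2, ← e, inv_eq_of_mul_eq_one_right (refl_sq hQ h.2.1), ← mul_assoc, ← mul_assoc,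
    refl_sq hQ h.2.1, one_mul]

theorem w2_cube {u v : Vec ι} (h : Pair Q u v) : w2 hQ u v ^ 3 = 1 := by
  have e : refl hQ u * refl hQ v * (refl hQ u)⁻¹ = refl hQ (v + u) := by
    rw [refl_conj hQ h.2.1, act_refl hQ h.1, h.symm.2.2, one_smul]
  have e' : refl hQ v * refl hQ u * (refl hQ v)⁻¹ = refl hQ (u + v) := by
    rw [refl_conj hQ h.1, act_refl hQ h.2.1, h.2.2, one_smul]
  rw [add_comm v u, ← e', inv_eq_of_mul_eq_one_right (refl_sq hQ h.1),
    inv_eq_of_mul_eq_one_right (refl_sq hQ h.2.1)] at e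
  have hu := refl_sq hQ h.1
  have hv := refl_sq hQ h.2.1
  rw [w2, pow_succ, sq]
  calc refl hQ u * refl hQ v * (refl hQ u * refl hQ v) * (refl hQ u * refl hQ v)
      = refl hQ u * refl hQ v * refl hQ u * (refl hQ v * refl hQ u * refl hQ v) := by group
    _ = 1 := by
        rw [← e, show refl hQ u * refl hQ v * refl hQ u * (refl hQ u * refl hQ v * refl hQ u) =
          refl hQ u * refl hQ v * (refl hQ u * refl hQ u) * refl hQ v * refl hQ u by group, hu, mul_one,
          mul_assoc (refl hQ u), hv, mul_one, hu]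

theorem w2_mem_commutator {u v : Vec ι} (h : Pair Q u v) : w2 hQ u v ∈ commutator OQ := by
  have hu := refl_sq hQ h.1
  have hv := refl_sq hQ h.2.1
  have h2 : w2 hQ u v ^ 2 ∈ commutator OQ := by
    rw [commutator_def, sq, w2]
    have := Subgroup.commutator_mem_commutator (Subgroup.mem_top (refl hQ u)) (Subgroup.mem_top (refl hQ v))
    rw [commutatorElement_def, inv_eq_of_mul_eq_one_right hu, inv_eq_of_mul_eq_one_right hv] at this
    simpa [mul_assoc] using this
  have h4 := Subgroup.mul_mem _ h2 h2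
  have e : w2 hQ u v ^ 2 * w2 hQ u v ^ 2 = w2 hQ u v := by
    rw [← pow_add, show 2 + 2 = 3 + 1 from rfl, pow_succ, w2_cube hQ h, one_mul]
  rwa [e] at h4

omit hQ in
/-- The words in reflections generate, and nonsingular vectors have common partners. -/
structure Gen (hQ : Good Q) : Prop where
  refl_top : Subgroup.closure {g : OQ | ∃ u, Q u = 1 ∧ g = refl hQ u} = ⊤
  partner : ∀ u v, Q u = 1 → Q v = 1 → pol Q u v = 0 → ∃ x, Q x = 1 ∧ pol Q u x = 1 ∧ pol Q x v = 1

theorem commutator_le_closure (hG : Gen hQ) :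
    commutator OQ ≤ Subgroup.closure {g : OQ | ∃ u v, Pair Q u v ∧ g = w2 hQ u v} := by
  set W := Subgroup.closure {g : OQ | ∃ u v, Pair Q u v ∧ g = w2 hQ u v}
  haveI : W.Normal := by
    refine ⟨fun n hn g => ?_⟩
    suffices h : W ≤ W.comap (MulAut.conj g).toMonoidHom from h hn
    rw [Subgroup.closure_le]
    rintro _ ⟨u, v, h, rfl⟩
    refine Subgroup.subset_closure ⟨act g u, act g v, ⟨(Q_act g u).trans h.1, (Q_act g v).trans h.2.1,
      (pol_act g u v).trans h.2.2⟩, ?_⟩
    exact w2_conj hQ h g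
  have hsame : ∀ u v, Q u = 1 → Q v = 1 → refl hQ u * refl hQ v ∈ W := by
    intro u v hu hv
    rcases zmod_two (pol Q u v) with h | h
    · obtain ⟨x, hx, h1, h2⟩ := hG.partner u v hu hv h
      have := W.mul_mem (Subgroup.subset_closure ⟨u, x, ⟨hu, hx, h1⟩, rfl⟩)
        (Subgroup.subset_closure ⟨x, v, ⟨hx, hv, h2⟩, rfl⟩)
      rw [w2, w2, mul_assoc, ← mul_assoc (refl hQ x), refl_sq hQ hx, one_mul] at this
      exact this
    · exact Subgroup.subset_closure ⟨u, v, ⟨hu, hv, h⟩, rfl⟩
  have key : ∀ g ∈ (⊤ : Subgroup OQ), g ∈ W ∨ ∀ u, Q u = 1 → refl hQ u * g ∈ W := by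
    rw [← hG.refl_top]
    intro g hg
    induction hg using Subgroup.closure_induction with
    | mem g hg =>
      obtain ⟨v, hv, rfl⟩ := hg
      exact Or.inr fun u hu => hsame u v hu hv
    | one => exact Or.inl W.one_mem
    | mul a b _ _ ha hb =>
      rcases ha with ha | ha
      · rcases hb with hb | hb
        · exact Or.inl (W.mul_mem ha hb)
        · refine Or.inr fun u hu => ?_
          rw [show refl hQ u * (a * b) = (refl hQ u * a * (refl hQ u)⁻¹) * (refl hQ u * b) by group]
          exact W.mul_mem (Subgroup.Normal.conj_mem inferInstance _ ha _) (hb u hu)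
      · rcases hb with hb | hb
        · exact Or.inr fun u hu => by rw [← mul_assoc]; exact W.mul_mem (ha u hu) hb
        · by_cases hex : ∃ u, Q u = 1
          · obtain ⟨u, hu⟩ := hex
            left
            rw [show a * b = (refl hQ u)⁻¹ * (refl hQ u * a) * (refl hQ u)⁻¹⁻¹ *
              ((refl hQ u * refl hQ u)⁻¹ * (refl hQ u * b)) by group, refl_sq hQ hu, inv_one, one_mul]
            exact W.mul_mem (Subgroup.Normal.conj_mem inferInstance _ (ha u hu) _) (hb u hu)
          · exact Or.inr fun u hu => absurd ⟨u, hu⟩ hex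
    | inv a _ ha =>
      rcases ha with ha | ha
      · exact Or.inl (W.inv_mem ha)
      · refine Or.inr fun u hu => ?_
        rw [show refl hQ u * a⁻¹ = refl hQ u * (refl hQ u * a)⁻¹ * (refl hQ u)⁻¹ * (refl hQ u * refl hQ u) by group,
          refl_sq hQ hu, mul_one]
        exact Subgroup.Normal.conj_mem inferInstance _ (W.inv_mem (ha u hu)) _
  have sq : ∀ a : OQ, a ∈ W ∨ ∀ u, Q u = 1 → refl hQ u * a ∈ W := fun a => key a (Subgroup.mem_top a)
  by_cases hex : ∃ u, Q u = 1
  · obtain ⟨u, hu⟩ := hex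
    rw [← Subgroup.Normal.quotient_commutative_iff_commutator_le]
    have hcl : ∀ a : OQ ⧸ W, a = 1 ∨ a = ↑((refl hQ u)⁻¹) := fun a => by
      induction a using QuotientGroup.induction_on with
      | _ a =>
        rcases sq a with h | h
        · exact Or.inl ((QuotientGroup.eq_one_iff a).2 h)
        · right
          rw [QuotientGroup.eq]
          have := W.inv_mem (h u hu)
          rwa [mul_inv_rev] at this
    exact ⟨⟨fun a b => by
      rcases hcl a with rfl | rfl <;> rcases hcl b with rfl | rfl <;> simp⟩⟩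
  · refine le_trans le_top ?_
    rw [← hG.refl_top, Subgroup.closure_le]
    rintro _ ⟨u, hu, rfl⟩
    exact absurd ⟨u, hu⟩ hex

end CfsgLib.OrthH1
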