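import Cfsg.Agent.OrthH1.Cocycle

/-! Certificate for one of the three orthogonal groups. -/

set_option autoImplicit false
set_option maxRecDepth 4000

namespace CfsgLib.OrthH1.CaseA

/-- The numbering of the coordinates. -/
def pos : ((Fin 1 ⊕ Fin 1) ⊕ Fin 2) ≃ Fin 4 where
  toFun := fun i => match i with
    | .inl (.inl j) => ⟨j.val, by omega⟩
    | .inl (.inr j) => ⟨1 + j.val, by omega⟩
    | .inr j => ⟨2 + j.val, by omega⟩
  invFun := fun k => if h₁ : k.val < 1 then .inl (.inl ⟨k.val, h₁⟩)
    else if h₂ : k.val < 2 then .inl (.inr ⟨k.val - 1, by omega⟩)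
    else .inr ⟨k.val - 2, by omega⟩
  left_inv := by decide
  right_inv := by decide

/-- The orbit words. -/
def orb : List (ℕ × List Bool) := [
  (3, []),
  (4, [false, true, true, false]),
  (5, [true]),
  (6, [true, true]),
  (8, [true, false]),
  (9, [false, false]),
  (10, [true, true, false, false]),
  (12, [true, false, false]),
  (13, [false]),
  (14, [true, true, false])]

/-- The plane words. -/
def pl : List (ℕ × List Bool) := [
  (5, []),
  (6, []),
  (9, [true, true, false, false]),
  (10, [true, true, false, false]),
  (13, [true, true, false]),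
  (14, [true, true, false])]

theorem checks : Checks (Q := (Cfsg.quadFormMinus 1 (ZMod 2) 1 1)) pos 30584 [(13, 3), (13, 4)] 3 3 5 [1, 2, 4, 8] orb pl where
  table := by decide +kernel
  gen := by decide +kernel
  span := by decide +kernel
  partner := by decide +kernel
  pairs := by decide +kernel
  period := by decide +kernel
  kerA := by decide +kernel
  kerW := by decide +kernel
  splitA := by decide +kernel
  splitW := by decide +kernel
  orbit := by decide +kernel
  plane := by decide +kernel

theorem good : Good (Cfsg.quadFormMinus 1 (ZMod 2) 1 1) where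
  zero := by decide
  add_pol a b u := by
    simp only [pol, Cfsg.quadFormMinus, Cfsg.quadFormPlus, Pi.add_apply, Fin.sum_univ_succ, Fin.sum_univ_zero]
    ring_nf
    reduce_mod_char

end CfsgLib.OrthH1.CaseA
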