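import Cfsg.Agent.OrthH1.Cocycle

/-! Certificate for one of the three orthogonal groups. -/

set_option autoImplicit false
set_option maxRecDepth 4000

namespace CfsgLib.OrthH1.CaseC

/-- The numbering of the coordinates. -/
def pos : (Fin 4 ⊕ Fin 4) ≃ Fin 8 where
  toFun := fun i => match i with
    | .inl j => ⟨2 * j.val, by omega⟩
    | .inr j => ⟨2 * j.val + 1, by omega⟩
  invFun := fun k => if k.val % 2 = 0 then .inl ⟨k.val / 2, by omega⟩ else .inr ⟨k.val / 2, by omega⟩
  left_inv := by decide
  right_inv := by decide

/-- The orbit words. -/
def orb : List (ℕ × List Bool) := [
  (3, []),
  (7, [false, false, false, false, false, false]),
  (11, [false, false, true, false, false, true, true, false, false, false]),
  (12, [false, false, true, true, false, true, false, false, true, true]),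
  (13, [true]),
  (14, [true, true]),
  (19, [false, false, true, true, false, false, true, true]),
  (23, [false, true, false, false, true, true, false, false, false]),
  (27, [false, false, false, false]),
  (28, [false, false, false, false, true, true, false, false]),
  (29, [true, false, false, true, true, false, false, true, true]),
  (30, [false, false, false, true, false, true, false, false]),
  (35, [true, true, false, false, true, true, false, false, false]),
  (39, [false, true, false, true, false, false]),
  (43, [false, false, false, false, false, false, true, true]),
  (44, [false, false, false, false, false, false, true]),
  (45, [false, false, true, true, false, false, false]),
  (46, [true, false, false, true, true, false, false, false]),
  (48, [false, true, true, false, false, true, false, false, true, true]),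
  (49, [false, true, false, false, false, false, true]),
  (50, [false, true, true, false, true, true, false, false]),
  (52, [true, false, false, false, true, true, false, false]),
  (53, [true, true, false, true, false, false, true, true]),
  (54, [true, false, true, false, false, true, true]),
  (56, [false, true, false, false, true, true]),
  (57, [false, false, false, true, true, false, false]),
  (58, [false, true, true, false, false, false, true, true]),
  (63, [false, true, true, false, false, true, false, false, false]),
  (67, [false, false, false]),
  (71, [false, false, true, false, false, true, false, false, false]),
  (75, [false, true, false, false, false, false, true, true]),
  (76, [false, false, true, false, false]),
  (77, [true, false, false, false]),
  (78, [true, true, false, false, false]),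
  (83, [false, true, true, false, false, true, true]),
  (87, [false, false, true]),
  (91, [false, false, false, true, false, false, true, true]),
  (92, [false, false, true, true, false, false, true, true, false, false, false]),
  (93, [true, false, true, true, false, false, true, true]),
  (94, [false, false, true, false, false, false, true, true]),
  (99, [false, false, false, false, true, false, true, false, false]),
  (103, [false, false, false, false, false, true, false, true, false, false]),
  (107, [false, true, true]),
  (108, [false, true, true, false, false, false, false, false]),
  (109, [false, true, true, false, true, false, false, true, true]),
  (110, [false, false, true, true, false, true, true, false, false]),
  (112, [false, true, false, false, false]),
  (113, [true, false, false, true, false, true, false, false]),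
  (114, [true, true, false, false, true, false, true, false, false]),
  (116, [true, true, false, false, false, false, false]),
  (117, [false, true, false, false, true, false, true, false, false]),
  (118, [true, false, true, false, true, true, false, false, true, true]),
  (120, [false, true, false, true, true, false, false, true, true]),
  (121, [true, false, false, false, false, false]),
  (122, [false, false, false, false, false]),
  (127, [false, false, true, false, true, false, false]),
  (131, [true, true, false, false, true, false, false, true, true]),
  (135, [false, false, false, true, true, false, true, true, false, false]),
  (139, [false]),
  (140, [false, true, false, false, false, false, false]),
  (141, [false, false, true, false, false, true, true]),
  (142, [true, false, false, true, false, false, true, true]),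
  (147, [true, false, false, true, true]),
  (151, [false, false, true, true, false, false, false, true, true]),
  (155, [false, false, false, true]),
  (156, [false, false, false, true, true, false, false, false]),
  (157, [true, true, false, false, true, true]),
  (158, [false, false, true, true]),
  (163, [false, true, false, false]),
  (167, [false, false, true, false, true, true, false, false]),
  (171, [false, true, true, false, false, false, false, true, true]),
  (172, [false, true, true, false, true, false, false]),
  (173, [true, false, true, false, false]),
  (174, [true, true, false, true, false, false]),
  (176, [false, false, false, true, true, false, false, false, true, true]),
  (177, [false, true, false, false, false, true, true]),
  (178, [true, false, true, false, false, false, true, true]),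
  (180, [false, true, false, false, true, false, false, false]),
  (181, [true, false, false, true, true, false, true, false, false]),
  (182, [false, false, true, true, false, true, false, false]),
  (184, [true, true, false, false, true, true, false, true, false, false]),
  (185, [false, true, false, true, true, false, false]),
  (186, [false, false, false, false, false, true]),
  (191, [true, true, false, true, false, false, false, true, true]),
  (192, [false, false, false, false, false, true, true]),
  (193, [false, false, false, false, true]),
  (194, [true, false, false, false, false, true]),
  (196, [true, false, false]),
  (197, [true, true, false, true, true, false, false]),
  (198, [true, false, true, true, false, false]),
  (200, [false, true, true, false, false]),
  (201, [false, false]),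
  (202, [true, true, false, false]),
  (207, [true, true, false, false, false, false, true]),
  (208, [false, true, false, false, true, false, false, true, true]),
  (209, [true, false, false, false, true, false, false, false]),
  (210, [false, false, true, true, false, false]),
  (212, [true, true, false, false, false, false, true, true]),
  (213, [true, true, false, false, false, true, true]),
  (214, [true, false, false, false, true, true]),
  (216, [false, false, false, true, true]),
  (217, [true, false, false, false, false, true, true]),
  (218, [false, false, false, false, true, true]),
  (223, [false, false, false, true, false, false, false]),
  (224, [false, true]),
  (225, [false, false, false, true, false, false]),
  (226, [true, false, false, false, true, false, false]),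
  (228, [false, false, true, false, false, false]),
  (229, [false, false, true, false, false, false, false, true]),
  (230, [false, true, false, true, false, false, true, true]),
  (232, [true, false, false, true, false, false, false, false, true]),
  (233, [true, true, false, false, true, false, false, false]),
  (234, [true, false, false, true, false, false, false]),
  (239, [true, true, false, false, false, true, false, false]),
  (243, [false, false, false, true, false, false, false, true, true]),
  (247, [false, true, true, false, false, true, true, false, false, false]),
  (251, [false, true, true, false, false, false]),
  (252, [false, true, false, false, false, true, true, false, false]),
  (253, [false, false, true, false, false, true, false, true, false, false]),
  (254, [false, true, true, false, false, true, false, true, false, false])]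

/-- The plane words. -/
def pl : List (ℕ × List Bool) := [
  (13, []),
  (14, []),
  (29, [true, true, false, true, true, false, false, false, true, true, false, true, false, false]),
  (30, [true, true, false, true, true, false, false, false, true, true, false, true, false, false]),
  (45, [false, false, true, false, true, false, true, true, false, false, true, false, false]),
  (46, [false, false, true, false, true, false, true, true, false, false, true, false, false]),
  (49, [true, true, false, true, false, false, false, false, true, false, false]),
  (50, [true, true, false, true, false, false, false, false, true, false, false]),
  (53, [false, true, false, false, true, true, false, false, false, false]),
  (54, [false, true, false, false, true, true, false, false, false, false]),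
  (57, [true, true, false, true, true, false, false, false, true, false, false, false]),
  (58, [true, true, false, true, true, false, false, false, true, false, false, false]),
  (77, [false, false, false, true, false, false, false, false]),
  (78, [false, false, false, true, false, false, false, false]),
  (93, [false, true, true, false, false, true, true, false, false, false, false]),
  (94, [false, true, true, false, false, true, true, false, false, false, false]),
  (109, [true, true, false, false, false, false, true, false, true, false, false]),
  (110, [true, true, false, false, false, false, true, false, true, false, false]),
  (113, [false, false, true, true, false, true, false, true, false, true, true, false, false, false]),
  (114, [false, false, true, true, false, true, false, true, false, true, true, false, false, false]),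
  (117, [true, true, false, false, false, false, true, true, false, true, false, false]),
  (118, [true, true, false, false, false, false, true, true, false, true, false, false]),
  (121, [true, true, false, false, false, false, false, true, true, false, false]),
  (122, [true, true, false, false, false, false, false, true, true, false, false]),
  (141, [true, true, false, true, false, false, false, true, false, true, false, false]),
  (142, [true, true, false, true, false, false, false, true, false, true, false, false]),
  (157, [true, false, false, true, true, false, false, false, false, false]),
  (158, [true, false, false, true, true, false, false, false, false, false]),
  (173, [false, true, false, false, true, false, false, false, false]),
  (174, [false, true, false, false, true, false, false, false, false]),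
  (177, [true, true, false, true, false, false, false, true, false, false, false]),
  (178, [true, true, false, true, false, false, false, true, false, false, false]),
  (181, [true, true, false, false, false, false, true, true, false, true, true, false, false]),
  (182, [true, true, false, false, false, false, true, true, false, true, true, false, false]),
  (185, [true, true, false, false, false, false, false, true, false, false]),
  (186, [true, true, false, false, false, false, false, true, false, false]),
  (193, [true, true, false, false, false, false, true, true, false, false, false]),
  (194, [true, true, false, false, false, false, true, true, false, false, false]),
  (197, [false, true, true, false, false, true, false, false, false, false]),
  (198, [false, true, true, false, false, true, false, false, false, false]),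
  (201, [true, false, false, true, false, false, false, false, false]),
  (202, [true, false, false, true, false, false, false, false, false]),
  (209, [true, true, false, true, true, false, false, false, false, true, false, false]),
  (210, [true, true, false, true, true, false, false, false, false, true, false, false]),
  (213, [false, false, false, true, true, false, false, false, false]),
  (214, [false, false, false, true, true, false, false, false, false]),
  (217, [true, true, false, false, false, false, true, false, false, false]),
  (218, [true, true, false, false, false, false, true, false, false, false]),
  (225, [true, true, false, false, true, false, true, false, true, false, true, false, false, false]),
  (226, [true, true, false, false, true, false, true, false, true, false, true, false, false, false]),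
  (229, [true, true, false, true, true, false, false, false, true, false, true, false, false]),
  (230, [true, true, false, true, true, false, false, false, true, false, true, false, false]),
  (233, [false, false, true, true, false, true, true, false, true, false, true, true, false, false, false]),
  (234, [false, false, true, true, false, true, true, false, true, false, true, true, false, false, false]),
  (253, [true, true, false, true, false, false, false, true, true, false, true, false, false]),
  (254, [true, true, false, true, false, false, false, true, true, false, true, false, false])]

theorem checks : Checks (Q := (Cfsg.quadFormPlus 4 (ZMod 2))) pos 54518767989058627813427907899653103368520125748912612456443496272599911528584 [(214, 177), (39, 243), (210, 121)] 7 3 13 [3, 13, 16, 32, 7, 11, 64, 128] orb pl where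
  table := by decide +kernel
  gen := by decide +kernel
  span := by decide +kernel
  partner := by decide +kernel
  pairs := by decide +kernel
  period := by decide +kernel
  kerA := by decide +kernel
  kerW := by decide +kernel
  splitA := by decide +kernel
  splitW := by decide +kernel
  orbit := by decide +kernel
  plane := by decide +kernel

theorem good : Good (Cfsg.quadFormPlus 4 (ZMod 2)) where
  zero := by decide
  add_pol a b u := by
    simp only [pol, Cfsg.quadFormMinus, Cfsg.quadFormPlus, Pi.add_apply, Fin.sum_univ_succ, Fin.sum_univ_zero]
    ring_nf
    reduce_mod_char

end CfsgLib.OrthH1.CaseC
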