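import Cfsg.Agent.OrthH1.Basic
import Mathlib.Logic.Function.Iterate
import Mathlib.Data.Nat.Bitwise

/-! The vanishing criterion and its form on bit codes. -/

set_option autoImplicit false

namespace CfsgLib.OrthH1

variable {ι : Type} [Fintype ι] [DecidableEq ι] {Q : Vec ι → ZMod 2}

local notation "OQ" => Cfsg.isometryGroup (ZMod 2) Q

/-- A word in two elements. -/
def wordG {G : Type*} [Group G] (a w : G) (l : List Bool) : G :=
  (l.map fun b => if b then w else a).prod

theorem sub_eq_add_vec (a b : Vec ι) : a - b = a + b := by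
  rw [sub_eq_add_neg, neg_eq_of_add_eq_zero_right (add_self_vec b)]

theorem eq_of_add_eq_zero_vec {a b : Vec ι} (h : a + b = 0) : a = b := by
  rw [← sub_eq_add_vec, sub_eq_zero] at h; exact h

theorem vanish (hQ : Good Q) (hG : Gen hQ) (a : OQ) (ha : a ∈ commutator OQ) (N : ℕ) (haN : a ^ N = 1)
    {u₀ v₀ : Vec ι} (h₀ : Pair Q u₀ v₀)
    (kerA : ∀ x, (fun y => x + act a y)^[N] 0 = 0 → ∃ k, act a k + k = x)
    (kerW : ∀ x, (fun y => x + act (w2 hQ u₀ v₀) y)^[3] 0 = 0 → ∃ k, act (w2 hQ u₀ v₀) k + k = x)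
    (splitA : ∀ i, ∃ k, act a k + k = act a i + i ∧ act (w2 hQ u₀ v₀) k + k = 0)
    (splitW : ∀ j, ∃ k, act (w2 hQ u₀ v₀) k + k = act (w2 hQ u₀ v₀) j + j ∧ act a k + k = 0)
    (orbit : ∀ u, Q u = 1 → ∃ l, act (wordG a (w2 hQ u₀ v₀) l) u₀ = u)
    (plane : ∀ v, Pair Q u₀ v → ∃ l,
      (act (wordG a (w2 hQ u₀ v₀) l) u₀ = u₀ ∨ act (wordG a (w2 hQ u₀ v₀) l) u₀ = v ∨
        act (wordG a (w2 hQ u₀ v₀) l) u₀ = u₀ + v) ∧
      (act (wordG a (w2 hQ u₀ v₀) l) v₀ = u₀ ∨ act (wordG a (w2 hQ u₀ v₀) l) v₀ = v ∨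
        act (wordG a (w2 hQ u₀ v₀) l) v₀ = u₀ + v))
    (f : ↥(commutator OQ) → Vec ι)
    (hf : ∀ g h, f (g * h) = f g + act (g : OQ) (f h)) :
    ∃ v, ∀ g : ↥(commutator OQ), f g = act (g : OQ) v - v := by
  set w := w2 hQ u₀ v₀ with hwdef
  have hw : w ∈ commutator OQ := w2_mem_commutator hQ h₀
  have hf1 : f 1 = 0 := by
    have := hf 1 1
    rw [one_mul, show ((1 : ↥(commutator OQ)) : OQ) = 1 from rfl, act_one] at this
    exact left_eq_add.1 this
  have hiter : ∀ (g : ↥(commutator OQ)) (m : ℕ), f (g ^ m) = (fun y => f g + act (g : OQ) y)^[m] 0 := by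
    intro g m
    induction m with
    | zero => rw [pow_zero, hf1]; rfl
    | succ m ih => rw [pow_succ', hf, ih, Function.iterate_succ_apply']
  obtain ⟨i, hi⟩ := kerA (f ⟨a, ha⟩) (by
    rw [← hiter ⟨a, ha⟩ N, show (⟨a, ha⟩ : ↥(commutator OQ)) ^ N = 1 from Subtype.ext haN, hf1])
  obtain ⟨j, hj⟩ := kerW (f ⟨w, hw⟩) (by
    rw [← hiter ⟨w, hw⟩ 3, show (⟨w, hw⟩ : ↥(commutator OQ)) ^ 3 = 1 from Subtype.ext (w2_cube hQ h₀), hf1])
  obtain ⟨k₁, hk1, hk1'⟩ := splitA i
  obtain ⟨k₂, hk2, hk2'⟩ := splitW j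
  refine ⟨k₁ + k₂, ?_⟩
  let K : Subgroup OQ :=
    { carrier := {g | ∃ hg : g ∈ commutator OQ, f ⟨g, hg⟩ = act g (k₁ + k₂) + (k₁ + k₂)}
      one_mem' := ⟨one_mem _, by
        rw [show (⟨1, one_mem _⟩ : ↥(commutator OQ)) = 1 from rfl, hf1, act_one, add_self_vec]⟩
      mul_mem' := by
        rintro g h ⟨hg, eg⟩ ⟨hh, eh⟩
        refine ⟨mul_mem hg hh, ?_⟩
        rw [show (⟨g * h, mul_mem hg hh⟩ : ↥(commutator OQ)) = ⟨g, hg⟩ * ⟨h, hh⟩ from rfl, hf, eg, eh]
        change act g (k₁ + k₂) + (k₁ + k₂) + act g (act h (k₁ + k₂) + (k₁ + k₂)) = _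
        rw [act_add g (act h _), ← act_mul]
        change act g (k₁ + k₂) + (k₁ + k₂) + (act (g * h) (k₁ + k₂) + act g (k₁ + k₂)) = _
        rw [add_comm (act (g * h) _), add_add_add_comm, add_self_vec, zero_add, add_comm]
      inv_mem' := by
        rintro g ⟨hg, eg⟩
        refine ⟨inv_mem hg, ?_⟩
        have h := hf ⟨g⁻¹, inv_mem hg⟩ ⟨g, hg⟩
        rw [show (⟨g⁻¹, inv_mem hg⟩ : ↥(commutator OQ)) * ⟨g, hg⟩ = 1 from Subtype.ext (inv_mul_cancel g),
          hf1, eg, act_add] at h
        change 0 = _ + (act g⁻¹ (act g (k₁ + k₂)) + act g⁻¹ (k₁ + k₂)) at h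
        rw [act_inv_act, add_comm (k₁ + k₂)] at h
        exact eq_of_add_eq_zero_vec h.symm }
  have haK : a ∈ K := ⟨ha, by rw [← hi, ← hk1, act_add]; linear_combination (norm := abel) -hk2'⟩
  have hwK : w ∈ K := ⟨hw, by rw [← hj, ← hk2, act_add]; linear_combination (norm := abel) -hk1'⟩
  have hword : ∀ l, wordG a w l ∈ K := fun l => K.list_prod_mem fun g hg => by
    obtain ⟨b, -, rfl⟩ := List.mem_map.1 hg
    split <;> assumption
  have hplane : ∀ v, Pair Q u₀ v → w2 hQ u₀ v ∈ K := by
    intro v hv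
    obtain ⟨l, hl1, hl2⟩ := plane v hv
    set g := wordG a w l
    have hpq : Pair Q (act g u₀) (act g v₀) :=
      ⟨(Q_act g _).trans h₀.1, (Q_act g _).trans h₀.2.1, (pol_act g _ _).trans h₀.2.2⟩
    have hK : w2 hQ (act g u₀) (act g v₀) ∈ K := by
      rw [← w2_conj hQ h₀ g]
      exact K.mul_mem (K.mul_mem (hword l) hwK) (K.inv_mem (hword l))
    have hne : act g u₀ ≠ act g v₀ := fun e => by
      have := hpq.2.2; rw [e, pol_self hQ.zero] at this; exact zero_ne_one this
    have hv' : Pair Q v (u₀ + v) := by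
      refine ⟨hv.2.1, Q_add_of_pair hv, ?_⟩
      rw [pol_comm, hQ.add_pol, hv.2.2, pol_self hQ.zero, add_zero]
    have r1 : w2 hQ v (u₀ + v) = w2 hQ u₀ v := w2_rot hQ hv
    have r2 : w2 hQ (u₀ + v) u₀ = w2 hQ u₀ v := by
      have h := w2_rot hQ hv'
      rw [show v + (u₀ + v) = u₀ by rw [add_left_comm, add_self_vec, add_zero], r1] at h
      exact h
    have hv'' : Pair Q (u₀ + v) u₀ := by
      refine ⟨Q_add_of_pair hv, hv.1, ?_⟩
      rw [hQ.add_pol, pol_self hQ.zero, zero_add, pol_comm]; exact hv.2.2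
    rcases hl1 with e1 | e1 | e1 <;> rcases hl2 with e2 | e2 | e2 <;> rw [e1, e2] at hK hne <;>
      first
        | exact absurd rfl hne
        | exact hK
        | (rw [r1] at hK; exact hK)
        | (rw [r2] at hK; exact hK)
        | (rw [w2_symm hQ hv, inv_mem_iff] at hK; exact hK)
        | (rw [w2_symm hQ hv', inv_mem_iff, r1] at hK; exact hK)
        | (rw [w2_symm hQ hv'', inv_mem_iff, r2] at hK; exact hK)
  have hle : commutator OQ ≤ K := by
    refine (commutator_le_closure hQ hG).trans ((Subgroup.closure_le K).2 ?_)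
    rintro _ ⟨p, q, hpq, rfl⟩
    obtain ⟨l, hl⟩ := orbit p hpq.1
    set g := wordG a w l
    have hv : Pair Q u₀ (act g⁻¹ q) := by
      refine ⟨h₀.1, (Q_act _ _).trans hpq.2.1, ?_⟩
      rw [← pol_act g, act_act_inv, hl]; exact hpq.2.2
    have := K.mul_mem (K.mul_mem (hword l) (hplane _ hv)) (K.inv_mem (hword l))
    rwa [w2_conj hQ hv, hl, act_act_inv] at this
  intro g
  obtain ⟨hg, e⟩ := hle g.2
  rw [sub_eq_add_vec]
  exact e

section Code

variable {n : ℕ} (pos : ι ≃ Fin n) (T : ℕ)

/-- The vector of a code. -/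
def vec (k : ℕ) : Vec ι := fun i => bif k.testBit (pos i).val then 1 else 0

/-- The polar form on codes. -/
def bN (a b : ℕ) : Bool := T.testBit (a ^^^ b) ^^ T.testBit a ^^ T.testBit b

/-- A reflection on codes. -/
def tN (u x : ℕ) : ℕ := bif bN T x u then x ^^^ u else x

/-- A product of pairs of reflections on codes. -/
def pN (ps : List (ℕ × ℕ)) (x : ℕ) : ℕ := ps.foldr (fun p y => tN T p.1 (tN T p.2 y)) x

/-- A word on codes. -/
def wN (ps : List (ℕ × ℕ)) (u v : ℕ) (l : List Bool) (x : ℕ) : ℕ :=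
  l.foldr (fun b y => bif b then pN T [(u, v)] y else pN T ps y) x

/-- The span on codes. -/
def spanN (bs : List ℕ) : List ℕ := bs.foldl (fun s e => s ++ s.map (· ^^^ e)) [0]

/-- The vectors that reflections fixing the previous ones may use. -/
def okN (n : ℕ) (pre : List ℕ) : List ℕ :=
  (List.range (2 ^ n)).filter fun u => T.testBit u && pre.all fun b => !bN T u b

/-- The check that reflections generate. -/
def genB (n : ℕ) : List ℕ → List ℕ → Bool
  | _, [] => true
  | pre, e :: rest =>
    (let ok := okN T n pre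
     let sp := spanN pre
     decide (e < 2 ^ n) && pre.all (fun b => decide (b < 2 ^ n)) && (List.range (2 ^ n)).all fun v =>
      sp.contains v || T.testBit v != T.testBit e || pre.any (fun b => bN T v b != bN T e b) || v == e ||
        ok.any (fun u => tN T u v == e) || ok.any (fun u₁ => ok.any fun u₂ => tN T u₂ (tN T u₁ v) == e)) &&
      genB n (pre ++ [e]) rest

/-- All the remaining checks. -/
structure Checks (ps : List (ℕ × ℕ)) (N u v : ℕ) (bs : List ℕ) (orb pl : List (ℕ × List Bool)) : Prop where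
  table : ∀ k : Fin (2 ^ n), Q (vec pos k.val) = bif T.testBit k.val then 1 else 0
  gen : genB T n [] bs = true
  span : ((List.range (2 ^ n)).all fun k => (spanN bs).contains k) = true
  partner : ((List.range (2 ^ n)).all fun x => (List.range (2 ^ n)).all fun y =>
    !(T.testBit x && T.testBit y) || bN T x y ||
      (List.range (2 ^ n)).any fun z => T.testBit z && bN T x z && bN T z y) = true
  pairs : ((u, v) :: ps).all (fun p => decide (p.1 < 2 ^ n) && decide (p.2 < 2 ^ n) &&
    T.testBit p.1 && T.testBit p.2 && bN T p.1 p.2) = true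
  period : ((List.range (2 ^ n)).all fun x => ((pN T ps)^[N] x) == x) = true
  kerA : ((List.range (2 ^ n)).all fun x => ((fun y => x ^^^ pN T ps y)^[N] 0) != 0 ||
    (List.range (2 ^ n)).any fun k => pN T ps k ^^^ k == x) = true
  kerW : ((List.range (2 ^ n)).all fun x => ((fun y => x ^^^ pN T [(u, v)] y)^[3] 0) != 0 ||
    (List.range (2 ^ n)).any fun k => pN T [(u, v)] k ^^^ k == x) = true
  splitA : ((List.range (2 ^ n)).all fun i => (List.range (2 ^ n)).any fun k =>
    pN T ps k ^^^ k == pN T ps i ^^^ i && pN T [(u, v)] k ^^^ k == 0) = true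
  splitW : ((List.range (2 ^ n)).all fun i => (List.range (2 ^ n)).any fun k =>
    pN T [(u, v)] k ^^^ k == pN T [(u, v)] i ^^^ i && pN T ps k ^^^ k == 0) = true
  orbit : ((List.range (2 ^ n)).all fun x => !T.testBit x ||
    orb.any fun e => wN T ps u v e.2 u == x) = true
  plane : ((List.range (2 ^ n)).all fun x => !(T.testBit x && bN T u x) ||
    pl.any fun e => e.1 == x && [u, x, u ^^^ x].contains (wN T ps u v e.2 u) &&
      [u, x, u ^^^ x].contains (wN T ps u v e.2 v)) = true

omit [Fintype ι] [DecidableEq ι] in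
theorem vec_xor (a b : ℕ) : vec pos (a ^^^ b) = vec pos a + vec pos b := funext fun i => by
  simp only [vec, Pi.add_apply, Nat.testBit_xor]
  cases a.testBit (pos i).val <;> cases b.testBit (pos i).val <;> decide

omit [Fintype ι] [DecidableEq ι] in
theorem vec_zero : vec pos 0 = 0 := funext fun i => by simp [vec]

theorem vec_surjective (x : Vec ι) : ∃ k < 2 ^ n, vec pos k = x := by
  have hinj : Function.Injective (fun k : Fin (2 ^ n) => vec pos k.val) := fun a b h => by
    refine Fin.ext (Nat.eq_of_testBit_eq fun i => ?_)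
    rcases lt_or_ge i n with hi | hi
    · have := congrFun h (pos.symm ⟨i, hi⟩)
      simp only [vec, Equiv.apply_symm_apply] at this
      revert this
      cases a.val.testBit i <;> cases b.val.testBit i <;> decide
    · rw [Nat.testBit_lt_two_pow (a.isLt.trans_le (Nat.pow_le_pow_right (by norm_num) hi)),
        Nat.testBit_lt_two_pow (b.isLt.trans_le (Nat.pow_le_pow_right (by norm_num) hi))]
  have hb := (Fintype.bijective_iff_injective_and_card _).2 ⟨hinj, by
    rw [Fintype.card_fin, Fintype.card_fun, ZMod.card, Fintype.card_congr pos, Fintype.card_fin]⟩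
  obtain ⟨k, hk⟩ := hb.2 x
  exact ⟨k.val, k.isLt, hk⟩

variable {pos T} {ps : List (ℕ × ℕ)} {N u v : ℕ} {bs : List ℕ} {orb pl : List (ℕ × List Bool)}

theorem all_range {p : ℕ → Bool} {m : ℕ} (h : (List.range m).all p = true) {k : ℕ} (hk : k < m) :
    p k = true :=
  List.all_eq_true.1 h k (List.mem_range.2 hk)

theorem any_range {p : ℕ → Bool} {m : ℕ} (h : (List.range m).any p = true) : ∃ k < m, p k = true := by
  obtain ⟨k, hk, hp⟩ := List.any_eq_true.1 h
  exact ⟨k, List.mem_range.1 hk, hp⟩

theorem vanish_of_checks (hQ : Good Q) (C : Checks (Q := Q) pos T ps N u v bs orb pl)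
    (f : ↥(commutator OQ) → Vec ι) (hf : ∀ g h, f (g * h) = f g + act (g : OQ) (f h)) :
    ∃ c, ∀ g : ↥(commutator OQ), f g = act (g : OQ) c - c := by
  have h2 : ∀ {a b : ℕ}, a < 2 ^ n → b < 2 ^ n → a ^^^ b < 2 ^ n := fun ha hb => Nat.xor_lt_two_pow ha hb
  have hQk : ∀ k < 2 ^ n, (Q (vec pos k) = 1 ↔ T.testBit k = true) := fun k hk => by
    rw [C.table ⟨k, hk⟩]
    cases T.testBit k <;> simp
  have hpolv : ∀ a b, a < 2 ^ n → b < 2 ^ n → pol Q (vec pos a) (vec pos b) = bif bN T a b then 1 else 0 :=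
    fun a b ha hb => by
      rw [pol, ← vec_xor, C.table ⟨_, h2 ha hb⟩, C.table ⟨a, ha⟩, C.table ⟨b, hb⟩, bN]
      cases T.testBit (a ^^^ b) <;> cases T.testBit a <;> cases T.testBit b <;> decide
  have hpol : ∀ a b, a < 2 ^ n → b < 2 ^ n → (pol Q (vec pos a) (vec pos b) = 1 ↔ bN T a b = true) :=
    fun a b ha hb => by rw [hpolv a b ha hb]; cases bN T a b <;> simp
  have htN : ∀ a x, a < 2 ^ n → x < 2 ^ n → T.testBit a = true →
      tN T a x < 2 ^ n ∧ act (refl hQ (vec pos a)) (vec pos x) = vec pos (tN T a x) := fun a x ha hx hta => by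
    rw [act_refl hQ ((hQk a ha).2 hta), hpolv x a hx ha, tN]
    cases bN T x a
    · simp only [cond_false]; exact ⟨hx, by rw [zero_smul, add_zero]⟩
    · simp only [cond_true]; exact ⟨h2 hx ha, by rw [one_smul, vec_xor]⟩
  have hok : ∀ p ∈ (u, v) :: ps, p.1 < 2 ^ n ∧ p.2 < 2 ^ n ∧ T.testBit p.1 = true ∧ T.testBit p.2 = true ∧
      bN T p.1 p.2 = true := fun p hp => by
    have h := List.all_eq_true.1 C.pairs p hp
    simp only [Bool.and_eq_true, decide_eq_true_eq] at h
    exact ⟨h.1.1.1.1, h.1.1.1.2, h.1.1.2, h.1.2, h.2⟩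
  have hprod : ∀ qs : List (ℕ × ℕ), (∀ p ∈ qs, p ∈ (u, v) :: ps) → ∀ x < 2 ^ n, pN T qs x < 2 ^ n ∧
      act ((qs.map fun p => w2 hQ (vec pos p.1) (vec pos p.2)).prod) (vec pos x) = vec pos (pN T qs x) := by
    intro qs
    induction qs with
    | nil => exact fun _ x hx => ⟨hx, act_one _⟩
    | cons p qs ih =>
      intro hq x hx
      obtain ⟨h1, e1⟩ := ih (fun r hr => hq r (List.mem_cons_of_mem _ hr)) x hx
      obtain ⟨hp1, hp2, ht1, ht2, -⟩ := hok p (hq p (List.mem_cons_self ..))
      obtain ⟨h3, e3⟩ := htN p.2 _ hp2 h1 ht2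
      obtain ⟨h4, e4⟩ := htN p.1 _ hp1 h3 ht1
      refine ⟨h4, ?_⟩
      rw [List.map_cons, List.prod_cons, act_mul, e1, w2, act_mul, e3, e4]
      rfl
  obtain ⟨hu, hv, htu, htv, hbuv⟩ := hok (u, v) (List.mem_cons_self ..)
  set a : OQ := (ps.map fun p => w2 hQ (vec pos p.1) (vec pos p.2)).prod
  set w : OQ := w2 hQ (vec pos u) (vec pos v) with hwdef
  have hA : ∀ x < 2 ^ n, pN T ps x < 2 ^ n ∧ act a (vec pos x) = vec pos (pN T ps x) :=
    hprod ps fun p hp => List.mem_cons_of_mem _ hp
  have hW : ∀ x < 2 ^ n, pN T [(u, v)] x < 2 ^ n ∧ act w (vec pos x) = vec pos (pN T [(u, v)] x) := by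
    have := hprod [(u, v)] (fun p hp => by rw [List.mem_singleton.1 hp]; exact List.mem_cons_self ..)
    simpa using this
  have hword : ∀ (l : List Bool), ∀ x < 2 ^ n, wN T ps u v l x < 2 ^ n ∧
      act (wordG a w l) (vec pos x) = vec pos (wN T ps u v l x) := by
    intro l
    induction l with
    | nil => exact fun x hx => ⟨hx, act_one _⟩
    | cons b l ih =>
      intro x hx
      obtain ⟨h1, e1⟩ := ih x hx
      rw [wordG, List.map_cons, List.prod_cons, act_mul]
      rw [wordG] at e1
      cases b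
      · obtain ⟨h2, e2⟩ := hA _ h1
        exact ⟨h2, by simp only [Bool.false_eq_true, if_false, e1, e2]; rfl⟩
      · obtain ⟨h2, e2⟩ := hW _ h1
        exact ⟨h2, by simp only [if_true, e1, e2]; rfl⟩
  have hiter : ∀ (g : OQ) (F : ℕ → ℕ), (∀ x < 2 ^ n, F x < 2 ^ n ∧ act g (vec pos x) = vec pos (F x)) →
      ∀ x < 2 ^ n, ∀ m, (fun y => x ^^^ F y)^[m] 0 < 2 ^ n ∧
        (fun y => vec pos x + act g y)^[m] 0 = vec pos ((fun y => x ^^^ F y)^[m] 0) := by
    intro g F hF x hx m
    induction m with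
    | zero => exact ⟨Nat.two_pow_pos n, (vec_zero pos).symm⟩
    | succ m ih =>
      obtain ⟨h1, e1⟩ := ih
      rw [Function.iterate_succ_apply', Function.iterate_succ_apply', e1, (hF _ h1).2, ← vec_xor]
      exact ⟨h2 hx (hF _ h1).1, rfl⟩
  have hcode : ∀ a b, a < 2 ^ n → b < 2 ^ n → vec pos a = vec pos b → a = b := fun a b ha hb h => by
    refine Nat.eq_of_testBit_eq fun i => ?_
    rcases lt_or_ge i n with hi | hi
    · have := congrFun h (pos.symm ⟨i, hi⟩)
      simp only [vec, Equiv.apply_symm_apply] at this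
      revert this
      cases a.testBit i <;> cases b.testBit i <;> decide
    · rw [Nat.testBit_lt_two_pow (ha.trans_le (Nat.pow_le_pow_right (by norm_num) hi)),
        Nat.testBit_lt_two_pow (hb.trans_le (Nat.pow_le_pow_right (by norm_num) hi))]
  have hker : ∀ (g : OQ) (F : ℕ → ℕ), (∀ x < 2 ^ n, F x < 2 ^ n ∧ act g (vec pos x) = vec pos (F x)) →
      ∀ m, ((List.range (2 ^ n)).all fun x => ((fun y => x ^^^ F y)^[m] 0) != 0 ||
        (List.range (2 ^ n)).any fun k => F k ^^^ k == x) = true →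
      ∀ x, (fun y => x + act g y)^[m] 0 = 0 → ∃ k, act g k + k = x := by
    intro g F hF m hchk x hx
    obtain ⟨k, hk, rfl⟩ := vec_surjective pos x
    obtain ⟨h1, e1⟩ := hiter g F hF k hk m
    rw [e1, ← vec_zero pos] at hx
    have h0 := hcode _ _ h1 (Nat.two_pow_pos n) hx
    have h := all_range hchk hk
    rw [h0] at h
    obtain ⟨j, hj, hje⟩ : ∃ j < 2 ^ n, F j ^^^ j = k := by simpa using h
    exact ⟨vec pos j, by rw [(hF j hj).2, ← vec_xor, hje]⟩
  have hsplit : ∀ (g g' : OQ) (F F' : ℕ → ℕ),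
      (∀ x < 2 ^ n, F x < 2 ^ n ∧ act g (vec pos x) = vec pos (F x)) →
      (∀ x < 2 ^ n, F' x < 2 ^ n ∧ act g' (vec pos x) = vec pos (F' x)) →
      ((List.range (2 ^ n)).all fun i => (List.range (2 ^ n)).any fun k =>
        F k ^^^ k == F i ^^^ i && F' k ^^^ k == 0) = true →
      ∀ i, ∃ k, act g k + k = act g i + i ∧ act g' k + k = 0 := by
    intro g g' F F' hF hF' hchk i
    obtain ⟨i, hi, rfl⟩ := vec_surjective pos i
    obtain ⟨k, hk, hke⟩ := any_range (all_range hchk hi)
    rw [Bool.and_eq_true, beq_iff_eq, beq_iff_eq] at hke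
    refine ⟨vec pos k, ?_, ?_⟩
    · rw [(hF k hk).2, (hF i hi).2, ← vec_xor, ← vec_xor, hke.1]
    · rw [(hF' k hk).2, ← vec_xor, hke.2, vec_zero]
  have hperiod : a ^ N = 1 := act_ext fun x => by
    obtain ⟨k, hk, rfl⟩ := vec_surjective pos x
    have : ∀ m, (pN T ps)^[m] k < 2 ^ n ∧ act (a ^ m) (vec pos k) = vec pos ((pN T ps)^[m] k) := by
      intro m
      induction m with
      | zero => exact ⟨hk, by rw [pow_zero, act_one]; rfl⟩
      | succ m ih =>
        rw [pow_succ', act_mul, ih.2, Function.iterate_succ_apply']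
        exact hA _ ih.1
    rw [(this N).2, beq_iff_eq.1 (all_range C.period hk), act_one]
  have hG : Gen hQ := by
    refine ⟨?_, fun x y hx hy hxy => ?_⟩
    · set R := Subgroup.closure {g : OQ | ∃ u, Q u = 1 ∧ g = refl hQ u}
      have main : ∀ rest pre, genB T n pre rest = true →
          ((List.range (2 ^ n)).all fun k => (spanN (pre ++ rest)).contains k) = true →
          ∀ g : OQ, (∀ b ∈ pre, act g (vec pos b) = vec pos b) → g ∈ R := by
        have hspan : ∀ (L : List ℕ) (g : OQ), (∀ b ∈ L, act g (vec pos b) = vec pos b) →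
            ∀ k ∈ spanN L, act g (vec pos k) = vec pos k := by
          intro L g
          induction L using List.reverseRecOn with
          | nil => intro _ k hk; rw [List.mem_singleton.1 (show k ∈ [0] from hk), vec_zero, act_zero]
          | append_singleton L e ih =>
            intro hL k hk
            rw [spanN, List.foldl_append] at hk
            simp only [List.foldl_cons, List.foldl_nil, List.mem_append, List.mem_map] at hk
            have hL' := ih fun b hb => hL b (List.mem_append_left _ hb)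
            rcases hk with hk | ⟨j, hj, rfl⟩
            · exact hL' k hk
            · rw [vec_xor, act_add, hL' j hj, hL e (by simp)]
        intro rest
        induction rest with
        | nil =>
          intro pre _ hsp g hg
          rw [List.append_nil] at hsp
          rw [show g = 1 from act_ext fun x => by
            obtain ⟨k, hk, rfl⟩ := vec_surjective pos x
            rw [act_one, hspan pre g hg k (List.contains_iff_mem.1 (all_range hsp hk))]]
          exact R.one_mem
        | cons e rest ih =>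
          intro pre hgen hsp g hg
          rw [genB] at hgen
          simp only [Bool.and_eq_true, decide_eq_true_eq] at hgen
          obtain ⟨⟨⟨he, hpre⟩, hall⟩, hrest⟩ := hgen
          have hpre' : ∀ b ∈ pre, b < 2 ^ n := fun b hb => by
            simpa using List.all_eq_true.1 hpre b hb
          rw [show pre ++ e :: rest = (pre ++ [e]) ++ rest by simp] at hsp
          have step : ∀ h ∈ R, (∀ b ∈ pre, act h (vec pos b) = vec pos b) →
              act (h * g) (vec pos e) = vec pos e → g ∈ R := by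
            intro h hh hfix hhe
            have := ih (pre ++ [e]) hrest hsp (h * g) fun b hb => by
              rcases List.mem_append.1 hb with hb | hb
              · rw [act_mul, hg b hb, hfix b hb]
              · rw [List.mem_singleton.1 hb]; exact hhe
            have := R.mul_mem (R.inv_mem hh) this
            rwa [inv_mul_cancel_left] at this
          obtain ⟨x, hx, hxe⟩ := vec_surjective pos (act g (vec pos e))
          have hre : ∀ {s : ℕ}, s ∈ okN T n pre → s < 2 ^ n ∧ T.testBit s = true ∧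
              refl hQ (vec pos s) ∈ R ∧ ∀ b ∈ pre, act (refl hQ (vec pos s)) (vec pos b) = vec pos b := by
            intro s hs
            rw [okN, List.mem_filter, List.mem_range, Bool.and_eq_true] at hs
            obtain ⟨hs, hts, hperp⟩ := hs
            refine ⟨hs, hts, Subgroup.subset_closure ⟨_, (hQk s hs).2 hts, rfl⟩, fun b hb => ?_⟩
            have := List.all_eq_true.1 hperp b hb
            rw [act_refl hQ ((hQk s hs).2 hts), pol_comm, hpolv s b hs (hpre' b hb),
              (by simpa using this : bN T s b = false)]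
            simp only [cond_false, zero_smul, add_zero]
          have hc := all_range hall hx
          simp only [Bool.or_eq_true, List.any_eq_true, beq_iff_eq] at hc
          rcases hc with ((((hsp' | hq) | hb) | heq) | ⟨s, hs, hse⟩) | ⟨s₁, hs1, s₂, hs2, hse⟩
          · have hfix : act g (vec pos x) = vec pos x := hspan pre g hg x (List.contains_iff_mem.1 hsp')
            have hxe' : vec pos x = vec pos e := by
              have := congrArg (act g⁻¹) (hfix.trans hxe)
              rwa [act_inv_act, act_inv_act] at this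
            exact step 1 R.one_mem (fun b _ => act_one _) (by rw [one_mul, ← hxe, hxe'])
          · exfalso
            have h1 := (hQk x hx).symm
            rw [hxe, Q_act g] at h1
            rw [hQk e he] at h1
            revert hq h1
            cases T.testBit x <;> cases T.testBit e <;> simp
          · exfalso
            obtain ⟨b, hb, hbne⟩ := hb
            have h1 := (hpol x b hx (hpre' b hb)).symm
            rw [hxe] at h1
            conv at h1 => rhs; lhs; arg 3; rw [← hg b hb]
            rw [pol_act, hpol e b he (hpre' b hb)] at h1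
            revert hbne h1
            cases bN T x b <;> cases bN T e b <;> simp
          · exact step 1 R.one_mem (fun b _ => act_one _) (by rw [one_mul, ← hxe, heq])
          · obtain ⟨h1, h2', h3, h4⟩ := hre hs
            exact step _ h3 h4 (by rw [act_mul, ← hxe, (htN s x h1 hx h2').2, hse])
          · obtain ⟨a1, a2, a3, a4⟩ := hre hs1
            obtain ⟨b1, b2, b3, b4⟩ := hre hs2
            refine step _ (R.mul_mem b3 a3) (fun b hb => by rw [act_mul, a4 b hb, b4 b hb]) ?_
            rw [act_mul, act_mul, ← hxe, (htN s₁ x a1 hx a2).2,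
              (htN s₂ _ b1 (htN s₁ x a1 hx a2).1 b2).2, hse]
      exact eq_top_iff.2 fun g _ => main bs [] C.gen C.span g (by simp)
    · obtain ⟨x, hxl, rfl⟩ := vec_surjective pos x
      obtain ⟨y, hyl, rfl⟩ := vec_surjective pos y
      have h := all_range (all_range C.partner hxl) hyl
      have hb : bN T x y = false := by
        rw [hpolv x y hxl hyl] at hxy
        revert hxy
        cases bN T x y <;> simp
      rw [(hQk x hxl).1 hx, (hQk y hyl).1 hy, hb] at h
      obtain ⟨z, hz, ⟨h1, h2'⟩, h3⟩ : ∃ z < 2 ^ n, (T.testBit z = true ∧ bN T x z = true) ∧ bN T z y = true := by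
        simpa using h
      exact ⟨vec pos z, (hQk z hz).2 h1, (hpol x z hxl hz).2 h2', (hpol z y hz hyl).2 h3⟩
  refine vanish hQ hG a ?_ N hperiod ⟨(hQk u hu).2 htu, (hQk v hv).2 htv, (hpol u v hu hv).2 hbuv⟩
    (hker a _ hA N C.kerA) (hker w _ hW 3 C.kerW) (hsplit a w _ _ hA hW C.splitA)
    (hsplit w a _ _ hW hA C.splitW) ?_ ?_ f hf
  · refine Subgroup.list_prod_mem _ fun g hg => ?_
    obtain ⟨p, hp, rfl⟩ := List.mem_map.1 hg
    obtain ⟨p1, p2, p3, p4, p5⟩ := hok p (List.mem_cons_of_mem _ hp)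
    exact w2_mem_commutator hQ ⟨(hQk _ p1).2 p3, (hQk _ p2).2 p4, (hpol _ _ p1 p2).2 p5⟩
  · intro x hx
    obtain ⟨x, hxl, rfl⟩ := vec_surjective pos x
    have h := all_range C.orbit hxl
    rw [(hQk x hxl).1 hx, Bool.not_true, Bool.false_or, List.any_eq_true] at h
    obtain ⟨e, -, he⟩ := h
    exact ⟨e.2, by rw [(hword e.2 u hu).2, beq_iff_eq.1 he]⟩
  · intro x hx
    obtain ⟨x, hxl, rfl⟩ := vec_surjective pos x
    have h := all_range C.plane hxl
    rw [(hQk x hxl).1 hx.2.1, (hpol u x hu hxl).1 hx.2.2, Bool.and_self, Bool.not_true, Bool.false_or,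
      List.any_eq_true] at h
    obtain ⟨e, -, he⟩ := h
    simp only [Bool.and_eq_true, List.contains_cons, List.contains_nil, Bool.or_eq_true, beq_iff_eq,
      Bool.or_false] at he
    refine ⟨e.2, ?_, ?_⟩
    · rw [(hword e.2 u hu).2]
      rcases he.1.2 with r | r | r <;> rw [r]
      · exact Or.inl rfl
      · exact Or.inr (Or.inl rfl)
      · exact Or.inr (Or.inr (vec_xor pos u x))
    · rw [(hword e.2 v hv).2]
      rcases he.2 with r | r | r <;> rw [r]
      · exact Or.inl rfl
      · exact Or.inr (Or.inl rfl)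
      · exact Or.inr (Or.inr (vec_xor pos u x))

end Code

end CfsgLib.OrthH1
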